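import Groth.Agent.SchDense.Affine
import Groth.Agent.NeronLib.Dense
import Mathlib.AlgebraicGeometry.SpreadingOut
import Mathlib.AlgebraicGeometry.Morphisms.SchemeTheoreticallyDominant

/-!
# Extending morphisms from the local scheme at a point

* `isGermInjectiveAt_of_reduced`: reduced schemes with locally finitely many components are germ-injective.
* `exists_extension`: a morphism on an open extends near a germ-injective point as soon as it extends to
  the local scheme at that point (no density needed).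
-/

universe u

open AlgebraicGeometry CategoryTheory Limits

namespace Groth.Agent.SpreadStalk

theorem spec_isGermInjective_of_reduced (R : CommRingCat.{u}) [_root_.IsReduced R]
    (hfin : (minimalPrimes R).Finite) : (Spec R).IsGermInjective := by
  classical
  refine Scheme.IsGermInjective.Spec fun I hI => ?_
  let S := hfin.toFinset.filter fun q => ¬ q ≤ I
  have hS : ∀ q ∈ S, ∃ a ∈ q, a ∉ I := fun q hq =>
    SetLike.not_le_iff_exists.1 (Finset.mem_filter.1 hq).2
  choose! a ha haI using hS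
  refine ⟨∏ q ∈ S, a q, fun h => ?_, fun x y hxy hy => ⟨1, ?_⟩⟩
  · obtain ⟨q, hq, hqI⟩ := hI.prod_mem_iff.1 h
    exact haI q hq hqI
  rw [pow_one]
  refine eq_zero_of_pow_eq_zero (n := 1) ?_
  have hmem : (∏ q ∈ S, a q) * x ∈ sInf (minimalPrimes R) := Submodule.mem_sInf.2 fun q hq => by
    by_cases hqI : q ≤ I
    · exact Ideal.mul_mem_left q _ ((hq.1.1.mem_or_mem (hxy ▸ q.zero_mem)).resolve_left
        fun h => hy (hqI h))
    · have hqS : q ∈ S := Finset.mem_filter.2 ⟨hfin.mem_toFinset.2 hq, hqI⟩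
      exact Ideal.mul_mem_right _ q (Ideal.mem_of_dvd _ (Finset.dvd_prod_of_mem a hqS) (ha q hqS))
  have h' : (∏ q ∈ S, a q) * x ∈ (⊥ : Ideal R).radical :=
    Ideal.sInf_minimalPrimes (I := (⊥ : Ideal R)) ▸ hmem
  obtain ⟨n, hn⟩ := h'
  rw [pow_one]
  exact eq_zero_of_pow_eq_zero (Ideal.mem_bot.1 hn)

theorem isGermInjectiveAt_of_reduced {X : Scheme.{u}} [IsReduced X] (x : X) (W : X.Opens) (hxW : x ∈ W)
    (hfin : {Z : Set ↥X | Z ∈ irreducibleComponents ↥X ∧ (Z ∩ (W : Set ↥X)).Nonempty}.Finite) :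
    X.IsGermInjectiveAt x := by
  obtain ⟨V, hV, hxV, hVW⟩ := exists_isAffineOpen_mem_and_subset hxW
  haveI : IsAffine (V : Scheme.{u}) := hV
  have hc : (irreducibleComponents ↥(V : Scheme.{u})).Finite := by
    refine (hfin.image fun C => V.ι ⁻¹' C).subset fun Z hZ => ?_
    obtain ⟨C, hC, hsub⟩ := exists_mem_irreducibleComponents_subset_of_isIrreducible _
      (hZ.1.image V.ι V.ι.continuous.continuousOn)
    obtain ⟨z, hz⟩ := hZ.1.nonempty
    have hzC : V.ι z ∈ C := hsub ⟨z, hz, rfl⟩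
    refine ⟨C, ⟨hC, V.ι z, hzC, hVW z.2⟩, ?_⟩
    have hpre : IsIrreducible (V.ι ⁻¹' C) := ⟨⟨z, hzC⟩, hC.1.2.preimage V.ι.isOpenEmbedding⟩
    have hle : Z ⊆ V.ι ⁻¹' C := fun w hw => hsub ⟨w, hw, rfl⟩
    exact (hle.antisymm (hZ.2 hpre hle)).symm
  let R : CommRingCat.{u} := Γ((V : Scheme.{u}), ⊤)
  haveI : IsReduced (V : Scheme.{u}) := isReduced_of_isOpenImmersion V.ι
  haveI : _root_.IsReduced R := inferInstanceAs (_root_.IsReduced Γ((V : Scheme.{u}), ⊤))
  haveI := spec_isGermInjective_of_reduced R (SchDense.minimalPrimes_finite hc)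
  let φ : Spec R ⟶ X := (V : Scheme.{u}).isoSpec.inv ≫ V.ι
  have hφ : φ ((V : Scheme.{u}).isoSpec.hom ⟨x, hxV⟩) = x := by
    rw [show φ = (V : Scheme.{u}).isoSpec.inv ≫ V.ι from rfl, Scheme.Hom.comp_apply]
    erw [Scheme.hom_inv_apply]
    rfl
  rw [← hφ]
  exact (isGermInjectiveAt_iff_of_isOpenImmersion (f := φ)).2 inferInstance

theorem isSchemeTheoreticallyDominant_fromSpecStalkOfMem {X : Scheme.{u}} {U : X.Opens}
    (hU : IsAffineOpen U) {x : X} (hxU : x ∈ U) (H : Function.Injective (X.presheaf.germ U x hxU)) :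
    IsSchemeTheoreticallyDominant (U.fromSpecStalkOfMem x hxU) := by
  haveI : IsAffine (U : Scheme.{u}) := hU
  have h := U.fromSpecStalkOfMem_toSpecΓ x hxU
  rw [← hU.isoSpec_hom, ← Iso.eq_comp_inv] at h
  rw [h]
  haveI : IsSchemeTheoreticallyDominant (Spec.map (X.presheaf.germ U x hxU)) := by
    refine ⟨Scheme.IdealSheafData.ext_of_isAffine ?_⟩
    rw [Scheme.Hom.ker_apply, Scheme.IdealSheafData.ideal_bot, Pi.bot_apply,
      ← RingHom.injective_iff_ker_eq_bot]
    change Function.Injective (Spec.map (X.presheaf.germ U x hxU)).appTop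
    have h : (Spec.map (X.presheaf.germ U x hxU)).appTop =
        (Scheme.ΓSpecIso _).hom ≫ X.presheaf.germ U x hxU ≫ (Scheme.ΓSpecIso _).inv := by
      rw [← Scheme.ΓSpecIso_naturality_assoc, Iso.hom_inv_id, Category.comp_id]
    rw [h]
    exact ((Scheme.ΓSpecIso _).symm.commRingCatIsoToRingEquiv.injective.comp H).comp
      (Scheme.ΓSpecIso _).commRingCatIsoToRingEquiv.injective
  infer_instance

theorem exists_extension {X Y S : Scheme.{u}} (pX : X ⟶ S) (pY : Y ⟶ S) [IsSeparated pY]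
    [LocallyOfFinitePresentation pY] (U : X.Opens) (h : (U : Scheme.{u}) ⟶ Y) (hh : h ≫ pY = U.ι ≫ pX)
    (x : X) [X.IsGermInjectiveAt x] (w : Spec (X.presheaf.stalk x) ⟶ Y)
    (hw : w ≫ pY = X.fromSpecStalk x ≫ pX)
    (hwU : pullback.fst (X.fromSpecStalk x) U.ι ≫ w = pullback.snd (X.fromSpecStalk x) U.ι ≫ h) :
    ∃ (V : X.Opens) (v : (V : Scheme.{u}) ⟶ Y), x ∈ V ∧ v ≫ pY = V.ι ≫ pX ∧
      X.homOfLE (inf_le_right : U ⊓ V ≤ V) ≫ v = X.homOfLE (inf_le_left : U ⊓ V ≤ U) ≫ h := by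
  obtain ⟨W, hxW, v, hwv, hv⟩ := spread_out_of_isGermInjective' pX pY w hw
  obtain ⟨V, hxV, hV, hVW, H⟩ := X.exists_le_and_germ_injective x W hxW
  refine ⟨V, X.homOfLE hVW ≫ v, hxV, by rw [Category.assoc, hv, Scheme.homOfLE_ι_assoc], ?_⟩
  haveI := isSchemeTheoreticallyDominant_fromSpecStalkOfMem hV hxV H
  haveI : IsAffine (V : Scheme.{u}) := hV
  let j := V.fromSpecStalkOfMem x hxV
  haveI : QuasiCompact j := inferInstance
  let incl := X.homOfLE (inf_le_right : U ⊓ V ≤ V)
  haveI : IsSchemeTheoreticallyDominant (pullback.snd j incl) := inferInstance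
  refine NeronLib.Dense.ext_of_schDominant pY ?_ (pullback.snd j incl) ?_
  · simp only [Category.assoc, hv, hh, Scheme.homOfLE_ι_assoc]
  have hjW : j ≫ X.homOfLE hVW = W.fromSpecStalkOfMem x hxW := by
    rw [← cancel_mono W.ι, Category.assoc, Scheme.homOfLE_ι, Scheme.Opens.fromSpecStalkOfMem_ι,
      Scheme.Opens.fromSpecStalkOfMem_ι]
  have hcond : pullback.fst j incl ≫ X.fromSpecStalk x =
      (pullback.snd j incl ≫ X.homOfLE (inf_le_left : U ⊓ V ≤ U)) ≫ U.ι := by
    rw [← V.fromSpecStalkOfMem_ι x hxV, pullback.condition_assoc, Category.assoc]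
    simp [incl]
  have key := congrArg (pullback.lift _ _ hcond ≫ ·) hwU
  simp only [pullback.lift_fst_assoc, pullback.lift_snd_assoc, Category.assoc] at key
  rw [← key, hwv, ← reassoc_of% (pullback.condition (f := j) (g := incl)), reassoc_of% hjW]

end Groth.Agent.SpreadStalk
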